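import Mathlib
import Groth.Prelude.Def_AlphaPn
import Groth.Prelude.Def_SekSuwa

set_option autoImplicit false
universe u
open TensorProduct

namespace Groth.Agent.Lib.Helper6.AlphaPn

/-- binomial expansion of a primitive element's powers -/
lemma add_tmul_pow {R : Type u} [CommRing R] {B : Type u} [CommRing B] [Algebra R B] (a b : B) (k : ℕ) :
    (a ⊗ₜ[R] (1 : B) + (1 : B) ⊗ₜ[R] b) ^ k =
      ∑ m ∈ Finset.range (k + 1), (k.choose m) • ((a ^ m) ⊗ₜ[R] (b ^ (k - m))) := by
  rw [add_pow]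
  refine Finset.sum_congr rfl fun m _ => ?_
  rw [Algebra.TensorProduct.tmul_pow, Algebra.TensorProduct.tmul_pow,
    Algebra.TensorProduct.tmul_mul_tmul, one_pow, one_pow, mul_one, one_mul, nsmul_eq_mul, mul_comm]

variable (p : ℕ) [hp : Fact p.Prime] (A : Type u) [CommRing A] [CharP A p] (n : ℕ)

/-- the linear section `x^i ↦ t^i` -/
noncomputable def sec : AlphaPn.A p n A →ₗ[A] SekSuwa.A A 0 :=
  have : Nontrivial A := CharP.nontrivial_of_char_ne_one (R := A) (v := p) hp.out.ne_one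
  (AlphaPn.basis p n A).constr A (fun i : Fin (p ^ n) => (SekSuwa.A.t : SekSuwa.A A 0) ^ (i : ℕ))

lemma sec_x_pow (m : ℕ) (hm : m < p ^ n) :
    sec p A n (AlphaPn.x p n A ^ m) = (SekSuwa.A.t : SekSuwa.A A 0) ^ m := by
  have : Nontrivial A := CharP.nontrivial_of_char_ne_one (R := A) (v := p) hp.out.ne_one
  have h := (AlphaPn.basis p n A).constr_basis A
    (fun i : Fin (p ^ n) => (SekSuwa.A.t : SekSuwa.A A 0) ^ (i : ℕ)) ⟨m, hm⟩
  rw [AlphaPn.basis_apply] at h
  exact h

lemma comul_t0 : Coalgebra.comul (R := A) (SekSuwa.A.t : SekSuwa.A A 0) =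
    (SekSuwa.A.t : SekSuwa.A A 0) ⊗ₜ[A] 1 + 1 ⊗ₜ[A] (SekSuwa.A.t : SekSuwa.A A 0) := by
  rw [SekSuwa.A.comul_t, zero_smul, add_zero]

lemma comul_sec :
    (Coalgebra.comul (R := A) (A := SekSuwa.A A 0)) ∘ₗ sec p A n =
      (TensorProduct.map (sec p A n) (sec p A n)) ∘ₗ (Coalgebra.comul (R := A) (A := AlphaPn.A p n A)) := by
  have : Nontrivial A := CharP.nontrivial_of_char_ne_one (R := A) (v := p) hp.out.ne_one
  apply (AlphaPn.basis p n A).ext
  intro i
  rw [AlphaPn.basis_apply, LinearMap.comp_apply, LinearMap.comp_apply, sec_x_pow p A n i i.2,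
    Bialgebra.comul_pow, Bialgebra.comul_pow, comul_t0, AlphaPn.comul_x, add_tmul_pow, add_tmul_pow,
    map_sum]
  refine Finset.sum_congr rfl fun m hm => ?_
  rw [map_nsmul, TensorProduct.map_tmul]
  have hm' : m < i + 1 := Finset.mem_range.mp hm
  rw [sec_x_pow p A n m (by omega), sec_x_pow p A n (i - m) (by omega)]

lemma counit_sec :
    (Coalgebra.counit (R := A) (A := SekSuwa.A A 0)) ∘ₗ sec p A n =
      (Coalgebra.counit (R := A) (A := AlphaPn.A p n A)) := by
  have : Nontrivial A := CharP.nontrivial_of_char_ne_one (R := A) (v := p) hp.out.ne_one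
  apply (AlphaPn.basis p n A).ext
  intro i
  rw [AlphaPn.basis_apply, LinearMap.comp_apply, sec_x_pow p A n i i.2,
    Bialgebra.counit_pow, Bialgebra.counit_pow, SekSuwa.A.counit_t, AlphaPn.counit_x]

lemma isGroupLikeElem_sec {u : AlphaPn.A p n A} (hu : IsGroupLikeElem A u) :
    IsGroupLikeElem A (sec p A n u) where
  counit_eq_one := by
    have := LinearMap.congr_fun (counit_sec p A n) u
    rw [LinearMap.comp_apply] at this
    rw [this, hu.counit_eq_one]
  comul_eq_tmul_self := by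
    have := LinearMap.congr_fun (comul_sec p A n) u
    rw [LinearMap.comp_apply, LinearMap.comp_apply, hu.comul_eq_tmul_self,
      TensorProduct.map_tmul] at this
    exact this

lemma map_sec (φ : SekSuwa.A A 0 →ₐc[A] AlphaPn.A p n A)
    (hφ : φ SekSuwa.A.t = AlphaPn.x p n A) (u : AlphaPn.A p n A) : φ (sec p A n u) = u := by
  have : Nontrivial A := CharP.nontrivial_of_char_ne_one (R := A) (v := p) hp.out.ne_one
  have h : (φ : SekSuwa.A A 0 →ₗ[A] AlphaPn.A p n A) ∘ₗ sec p A n = LinearMap.id := by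
    apply (AlphaPn.basis p n A).ext
    intro i
    rw [AlphaPn.basis_apply, LinearMap.comp_apply, sec_x_pow p A n i i.2]
    show φ (SekSuwa.A.t ^ (i : ℕ)) = _
    rw [map_pow, hφ]
    rfl
  exact LinearMap.congr_fun h u

end Groth.Agent.Lib.Helper6.AlphaPn
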